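import Mathlib
import Groth.Agent.Lib.FlatLimit.Vanish

/-!
# Base changes along a colimit of algebras, elementwise

A family of `A₀`-algebras `G i → A` through which finite sets of `A` lift, in which equalities valid in `A`
hold at a later stage.  The same then holds for `(B₀ ⊗ G i) ⊗ M → (B₀ ⊗ A) ⊗ M`.
-/

universe u v

noncomputable section

namespace GrothLib.RingStage

open scoped TensorProduct

variable (A₀ : Type u) [CommRing A₀] {ι : Type v} (G : ι → Type u) [∀ i, CommRing (G i)]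
  [∀ i, Algebra A₀ (G i)] (A : Type u) [CommRing A] [Algebra A₀ A] (g : ∀ i, G i →ₐ[A₀] A)

/-- `A` is an elementwise colimit of the `G i`. -/
structure IsStage : Prop where
  nonempty : Nonempty ι
  dir : ∀ i i' : ι, ∃ j, ∃ (φ : G i →ₐ[A₀] G j) (φ' : G i' →ₐ[A₀] G j),
    (g j).comp φ = g i ∧ (g j).comp φ' = g i'
  surj : ∀ a : A, ∃ i, ∃ x : G i, g i x = a
  vanish : ∀ i (x : G i), g i x = 0 → ∃ j, ∃ ψ : G i →ₐ[A₀] G j, (g j).comp ψ = g i ∧ ψ x = 0

theorem isStage_of_directed [Preorder ι] [IsDirected ι (· ≤ ·)] [Nonempty ι]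
    (f : ∀ i j, i ≤ j → (G i →ₐ[A₀] G j)) (hg : ∀ i j (h : i ≤ j), (g j).comp (f i j h) = g i)
    (hsurj : ∀ a : A, ∃ i, ∃ x : G i, g i x = a)
    (hker : ∀ i (x : G i), g i x = 0 → ∃ j, ∃ h : i ≤ j, f i j h x = 0) : IsStage A₀ G A g where
  nonempty := inferInstance
  dir i i' := by
    obtain ⟨j, h, h'⟩ := exists_ge_ge i i'
    exact ⟨j, f i j h, f i' j h', hg i j h, hg i' j h'⟩
  surj := hsurj
  vanish i x hx := by
    obtain ⟨j, h, hj⟩ := hker i x hx
    exact ⟨j, f i j h, hg i j h, hj⟩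

variable {A₀ G A g}

namespace IsStage

variable (S : IsStage A₀ G A g)
include S

theorem lift_finset (T : Finset A) : ∃ i, (T : Set A) ⊆ Set.range (g i) := by
  classical
  induction T using Finset.induction with
  | empty => exact ⟨S.nonempty.some, by simp⟩
  | insert a T _ ih =>
    obtain ⟨i, hi⟩ := ih
    obtain ⟨i', x, rfl⟩ := S.surj a
    obtain ⟨j, φ, φ', h, h'⟩ := S.dir i i'
    refine ⟨j, ?_⟩
    rw [Finset.coe_insert, Set.insert_subset_iff]
    refine ⟨⟨φ' x, AlgHom.congr_fun h' x⟩, fun b hb => ?_⟩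
    obtain ⟨y, rfl⟩ := hi hb
    exact ⟨φ y, AlgHom.congr_fun h y⟩

theorem vanish_finset (i : ι) (p : Finset (G i)) (hp : ∀ x ∈ p, g i x = 0) :
    ∃ j, ∃ ψ : G i →ₐ[A₀] G j, (g j).comp ψ = g i ∧ ∀ x ∈ p, ψ x = 0 := by
  classical
  induction p using Finset.induction with
  | empty => exact ⟨i, AlgHom.id _ _, AlgHom.comp_id _, by simp⟩
  | insert a p _ ih =>
    obtain ⟨j, ψ, hψ, h0⟩ := ih fun x hx => hp x (Finset.mem_insert_of_mem hx)
    have ha : g j (ψ a) = 0 := by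
      rw [← AlgHom.comp_apply, hψ]; exact hp a (Finset.mem_insert_self _ _)
    obtain ⟨k, φ, hφ, hφ0⟩ := S.vanish j (ψ a) ha
    refine ⟨k, φ.comp ψ, by rw [← AlgHom.comp_assoc, hφ, hψ], fun x hx => ?_⟩
    rcases Finset.mem_insert.1 hx with rfl | hx
    · exact hφ0
    · show φ (ψ x) = 0
      rw [h0 x hx, map_zero]

end IsStage

section tensor

variable (B₀ : Type u) [CommRing B₀] [Algebra A₀ B₀] (M : Type u) [AddCommGroup M] [Module B₀ M]
  {X Y : Type u} [CommRing X] [CommRing Y] [Algebra A₀ X] [Algebra A₀ Y]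

/-- Change of stage on `(B₀ ⊗ X) ⊗ M`. -/
def tr (ψ : X →ₐ[A₀] Y) : (B₀ ⊗[A₀] X) ⊗[B₀] M →ₗ[B₀] (B₀ ⊗[A₀] Y) ⊗[B₀] M :=
  ((Algebra.TensorProduct.map (AlgHom.id B₀ B₀) ψ).toLinearMap).rTensor M

theorem tr_tmul (ψ : X →ₐ[A₀] Y) (z : B₀ ⊗[A₀] X) (m : M) :
    tr B₀ M ψ (z ⊗ₜ m) = Algebra.TensorProduct.map (AlgHom.id B₀ B₀) ψ z ⊗ₜ m := rfl

theorem tr_tr {Z : Type u} [CommRing Z] [Algebra A₀ Z] (ψ : X →ₐ[A₀] Y) (φ : Y →ₐ[A₀] Z)
    (z : (B₀ ⊗[A₀] X) ⊗[B₀] M) : tr B₀ M φ (tr B₀ M ψ z) = tr B₀ M (φ.comp ψ) z := by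
  induction z using TensorProduct.induction_on with
  | zero => simp
  | add a b ha hb => simp [ha, hb]
  | tmul w m =>
    rw [tr_tmul, tr_tmul, tr_tmul, ← AlgHom.comp_apply, ← Algebra.TensorProduct.map_comp, AlgHom.comp_id]

end tensor

namespace IsStage

variable (S : IsStage A₀ G A g) (B₀ : Type u) [CommRing B₀] [Algebra A₀ B₀]
  (M : Type u) [AddCommGroup M] [Module B₀ M]
include S

theorem surj_tr (y : (B₀ ⊗[A₀] A) ⊗[B₀] M) :
    ∃ i, ∃ x : (B₀ ⊗[A₀] G i) ⊗[B₀] M, tr B₀ M (g i) x = y := by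
  induction y using TensorProduct.induction_on with
  | zero => exact ⟨S.nonempty.some, 0, map_zero _⟩
  | add a b ha hb =>
    obtain ⟨i, x, rfl⟩ := ha
    obtain ⟨i', x', rfl⟩ := hb
    obtain ⟨j, φ, φ', h, h'⟩ := S.dir i i'
    exact ⟨j, tr B₀ M φ x + tr B₀ M φ' x', by rw [map_add, tr_tr, tr_tr, h, h']⟩
  | tmul w m =>
    induction w using TensorProduct.induction_on with
    | zero => exact ⟨S.nonempty.some, 0, by rw [map_zero, TensorProduct.zero_tmul]⟩
    | add a b ha hb =>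
      obtain ⟨i, x, hx⟩ := ha
      obtain ⟨i', x', hx'⟩ := hb
      obtain ⟨j, φ, φ', h, h'⟩ := S.dir i i'
      exact ⟨j, tr B₀ M φ x + tr B₀ M φ' x',
        by rw [map_add, tr_tr, tr_tr, h, h', hx, hx', TensorProduct.add_tmul]⟩
    | tmul b a =>
      obtain ⟨i, x, rfl⟩ := S.surj a
      exact ⟨i, (b ⊗ₜ x) ⊗ₜ m, rfl⟩

theorem vanish_tr (i : ι) (z : (B₀ ⊗[A₀] G i) ⊗[B₀] M) (hz : tr B₀ M (g i) z = 0) :
    ∃ j, ∃ ψ : G i →ₐ[A₀] G j, (g j).comp ψ = g i ∧ tr B₀ M ψ z = 0 := by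
  classical
  letI : Module A₀ M := Module.compHom M (algebraMap A₀ B₀)
  haveI : IsScalarTower A₀ B₀ M := IsScalarTower.of_algebraMap_smul fun _ _ => rfl
  letI : ∀ j, Algebra (G j) A := fun j => (g j).toRingHom.toAlgebra
  haveI : ∀ j, IsScalarTower A₀ (G j) A := fun j =>
    IsScalarTower.of_algebraMap_eq fun a => ((g j).commutes a).symm
  -- the comparison with `X ⊗[A₀] M`
  let E : ∀ (X : Type u) [CommRing X] [Algebra A₀ X],
      (B₀ ⊗[A₀] X) ⊗[B₀] M ≃+ X ⊗[A₀] M := fun X _ _ =>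
    ((TensorProduct.comm B₀ _ M).toAddEquiv.trans
      (TensorProduct.AlgebraTensorModule.cancelBaseChange A₀ B₀ B₀ M X).toAddEquiv).trans
      (TensorProduct.comm A₀ M X).toAddEquiv
  have hE : ∀ (X : Type u) [CommRing X] [Algebra A₀ X] (b : B₀) (x : X) (m : M),
      E X ((b ⊗ₜ x) ⊗ₜ m) = x ⊗ₜ (b • m) := fun X _ _ b x m => by
    simp [E]
  have nat : ∀ (j k : ι) (ψ : G j →ₐ[A₀] G k) (y : (B₀ ⊗[A₀] G j) ⊗[B₀] M),
      E (G k) (tr B₀ M ψ y) = ψ.toLinearMap.rTensor M (E (G j) y) := fun j k ψ y => by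
    induction y using TensorProduct.induction_on with
    | zero => simp
    | add a b ha hb => simp only [map_add, ha, hb]
    | tmul w m =>
      induction w using TensorProduct.induction_on with
      | zero => simp
      | add a b ha hb => simp only [TensorProduct.add_tmul, map_add, ha, hb]
      | tmul b x => rw [tr_tmul, Algebra.TensorProduct.map_tmul, hE, hE]; rfl
  have natA : ∀ (j : ι) (y : (B₀ ⊗[A₀] G j) ⊗[B₀] M),
      E A (tr B₀ M (g j) y) = (g j).toLinearMap.rTensor M (E (G j) y) := fun j y => by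
    induction y using TensorProduct.induction_on with
    | zero => simp
    | add a b ha hb => simp only [map_add, ha, hb]
    | tmul w m =>
      induction w using TensorProduct.induction_on with
      | zero => simp
      | add a b ha hb => simp only [TensorProduct.add_tmul, map_add, ha, hb]
      | tmul b x => rw [tr_tmul, Algebra.TensorProduct.map_tmul, hE, hE]; rfl
  have hz' : (IsScalarTower.toAlgHom A₀ (G i) A).toLinearMap.rTensor M (E (G i) z) = 0 := by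
    have := natA i z
    rw [hz, map_zero] at this
    exact this.symm
  obtain ⟨j, ψ, hψ, h0⟩ := GrothLib.FlatLimit.exists_stage_tmul_eq_zero (A₀ := A₀) G
    (fun k k' => by
      obtain ⟨l, φ, φ', h, h'⟩ := S.dir k k'
      exact ⟨l, φ, φ', fun x => AlgHom.congr_fun h x, fun x => AlgHom.congr_fun h' x⟩)
    (fun T => S.lift_finset T)
    (fun k p hp => by
      obtain ⟨l, φ, hφ, hφ0⟩ := S.vanish_finset k (p.image fun x => x.1 - x.2) (fun x hx => by
        obtain ⟨y, hy, rfl⟩ := Finset.mem_image.1 hx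
        rw [map_sub, sub_eq_zero]
        exact hp y hy)
      exact ⟨l, φ, fun x => AlgHom.congr_fun hφ x, fun x hx =>
        sub_eq_zero.1 (map_sub φ x.1 x.2 ▸ hφ0 _ (Finset.mem_image_of_mem (fun x => x.1 - x.2) hx))⟩)
    i (E (G i) z) hz'
  refine ⟨j, ψ, AlgHom.ext hψ, (E (G j)).injective ?_⟩
  rw [nat, h0, map_zero]

/-- Finitely many elements lift to one stage. -/
theorem lift_tr {κ : Type*} [Finite κ] (y : κ → (B₀ ⊗[A₀] A) ⊗[B₀] M) :
    ∃ i, ∃ x : κ → (B₀ ⊗[A₀] G i) ⊗[B₀] M, ∀ k, tr B₀ M (g i) (x k) = y k := by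
  classical
  haveI := Fintype.ofFinite κ
  suffices h : ∀ T : Finset κ, ∃ i, ∃ x : κ → (B₀ ⊗[A₀] G i) ⊗[B₀] M,
      ∀ k ∈ T, tr B₀ M (g i) (x k) = y k by
    obtain ⟨i, x, hx⟩ := h Finset.univ
    exact ⟨i, x, fun k => hx k (Finset.mem_univ k)⟩
  intro T
  induction T using Finset.induction with
  | empty => exact ⟨S.nonempty.some, fun _ => 0, by simp⟩
  | insert a T ha ih =>
    obtain ⟨i, x, hx⟩ := ih
    obtain ⟨i', x', hx'⟩ := S.surj_tr B₀ M (y a)
    obtain ⟨j, φ, φ', h, h'⟩ := S.dir i i'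
    refine ⟨j, Function.update (fun k => tr B₀ M φ (x k)) a (tr B₀ M φ' x'), fun k hk => ?_⟩
    rcases Finset.mem_insert.1 hk with rfl | hk
    · rw [Function.update_self, tr_tr, h', hx']
    · rw [Function.update_of_ne (ne_of_mem_of_not_mem hk ha), tr_tr, h, hx k hk]

/-- Finitely many elements vanishing in the colimit vanish at one stage. -/
theorem vanish_tr_finite {κ : Type*} [Finite κ] (i : ι) (z : κ → (B₀ ⊗[A₀] G i) ⊗[B₀] M)
    (hz : ∀ k, tr B₀ M (g i) (z k) = 0) :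
    ∃ j, ∃ ψ : G i →ₐ[A₀] G j, (g j).comp ψ = g i ∧ ∀ k, tr B₀ M ψ (z k) = 0 := by
  classical
  haveI := Fintype.ofFinite κ
  suffices h : ∀ T : Finset κ, ∃ j, ∃ ψ : G i →ₐ[A₀] G j,
      (g j).comp ψ = g i ∧ ∀ k ∈ T, tr B₀ M ψ (z k) = 0 by
    obtain ⟨j, ψ, hψ, h0⟩ := h Finset.univ
    exact ⟨j, ψ, hψ, fun k => h0 k (Finset.mem_univ k)⟩
  intro T
  induction T using Finset.induction with
  | empty => exact ⟨i, AlgHom.id _ _, AlgHom.comp_id _, by simp⟩
  | insert a T _ ih =>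
    obtain ⟨j, ψ, hψ, h0⟩ := ih
    obtain ⟨k, φ, hφ, hφ0⟩ := S.vanish_tr B₀ M j (tr B₀ M ψ (z a)) (by rw [tr_tr, hψ]; exact hz a)
    refine ⟨k, φ.comp ψ, by rw [← AlgHom.comp_assoc, hφ, hψ], fun l hl => ?_⟩
    rw [← tr_tr]
    rcases Finset.mem_insert.1 hl with rfl | hl
    · exact hφ0
    · rw [h0 l hl, map_zero]

end IsStage

end GrothLib.RingStage
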