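import Mathlib
import Groth.Agent.Lib.RingStage.Basic

/-!
# Tensor products with a colimit, elementwise
-/

universe u v

set_option linter.style.haveILetI false

noncomputable section

namespace GrothLib.RingStage

open scoped TensorProduct

variable {A₀ : Type u} [CommRing A₀] {ι : Type v} {G : ι → Type u} [∀ i, CommRing (G i)]
  [∀ i, Algebra A₀ (G i)] {A : Type u} [CommRing A] [Algebra A₀ A] {g : ∀ i, G i →ₐ[A₀] A}

namespace IsStage

variable (S : IsStage A₀ G A g) (M : Type u) [AddCommGroup M] [Module A₀ M]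
include S

theorem surj_tmul (y : A ⊗[A₀] M) : ∃ i, ∃ x : G i ⊗[A₀] M, (g i).toLinearMap.rTensor M x = y := by
  induction y using TensorProduct.induction_on with
  | zero => exact ⟨S.nonempty.some, 0, map_zero _⟩
  | add a b ha hb =>
    obtain ⟨i, x, rfl⟩ := ha
    obtain ⟨i', x', rfl⟩ := hb
    obtain ⟨j, φ, φ', h, h'⟩ := S.dir i i'
    refine ⟨j, φ.toLinearMap.rTensor M x + φ'.toLinearMap.rTensor M x', ?_⟩
    rw [map_add, ← LinearMap.rTensor_comp_apply, ← LinearMap.rTensor_comp_apply,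
      ← AlgHom.comp_toLinearMap, ← AlgHom.comp_toLinearMap, h, h']
  | tmul a m =>
    obtain ⟨i, x, rfl⟩ := S.surj a
    exact ⟨i, x ⊗ₜ m, rfl⟩

theorem vanish_tmul (i : ι) (z : G i ⊗[A₀] M) (hz : (g i).toLinearMap.rTensor M z = 0) :
    ∃ j, ∃ ψ : G i →ₐ[A₀] G j, (g j).comp ψ = g i ∧ ψ.toLinearMap.rTensor M z = 0 := by
  classical
  letI : ∀ j, Algebra (G j) A := fun j => (g j).toRingHom.toAlgebra
  haveI : ∀ j, IsScalarTower A₀ (G j) A := fun j =>
    IsScalarTower.of_algebraMap_eq fun a => ((g j).commutes a).symm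
  obtain ⟨j, ψ, hψ, h0⟩ := GrothLib.FlatLimit.exists_stage_tmul_eq_zero (A₀ := A₀) G
    (fun k k' => by
      obtain ⟨l, φ, φ', h, h'⟩ := S.dir k k'
      exact ⟨l, φ, φ', fun x => AlgHom.congr_fun h x, fun x => AlgHom.congr_fun h' x⟩)
    (fun T => S.lift_finset T)
    (fun k p hp => by
      obtain ⟨l, φ, hφ, hφ0⟩ := S.vanish_finset k (p.image fun x => x.1 - x.2) (fun x hx => by
        obtain ⟨y, hy, rfl⟩ := Finset.mem_image.1 hx
        rw [map_sub, sub_eq_zero]
        exact hp y hy)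
      exact ⟨l, φ, fun x => AlgHom.congr_fun hφ x, fun x hx =>
        sub_eq_zero.1 (map_sub φ x.1 x.2 ▸ hφ0 _ (Finset.mem_image_of_mem (fun x => x.1 - x.2) hx))⟩)
    i z hz
  exact ⟨j, ψ, AlgHom.ext hψ, h0⟩

/-- Finitely many elements vanishing in the colimit vanish at one stage. -/
theorem vanish_tmul_finite {κ : Type*} [Finite κ] (i : ι) (z : κ → G i ⊗[A₀] M)
    (hz : ∀ k, (g i).toLinearMap.rTensor M (z k) = 0) :
    ∃ j, ∃ ψ : G i →ₐ[A₀] G j, (g j).comp ψ = g i ∧ ∀ k, ψ.toLinearMap.rTensor M (z k) = 0 := by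
  classical
  haveI := Fintype.ofFinite κ
  suffices h : ∀ T : Finset κ, ∃ j, ∃ ψ : G i →ₐ[A₀] G j,
      (g j).comp ψ = g i ∧ ∀ k ∈ T, ψ.toLinearMap.rTensor M (z k) = 0 by
    obtain ⟨j, ψ, hψ, h0⟩ := h Finset.univ
    exact ⟨j, ψ, hψ, fun k => h0 k (Finset.mem_univ k)⟩
  intro T
  induction T using Finset.induction with
  | empty => exact ⟨i, AlgHom.id _ _, AlgHom.comp_id _, by simp⟩
  | insert a T _ ih =>
    obtain ⟨j, ψ, hψ, h0⟩ := ih
    obtain ⟨k, φ, hφ, hφ0⟩ := S.vanish_tmul M j (ψ.toLinearMap.rTensor M (z a)) (by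
      rw [← LinearMap.rTensor_comp_apply, ← AlgHom.comp_toLinearMap, hψ]; exact hz a)
    refine ⟨k, φ.comp ψ, by rw [← AlgHom.comp_assoc, hφ, hψ], fun l hl => ?_⟩
    rw [AlgHom.comp_toLinearMap, LinearMap.rTensor_comp_apply]
    rcases Finset.mem_insert.1 hl with rfl | hl
    · exact hφ0
    · rw [h0 l hl, map_zero]

variable (B C : Type u) [CommRing B] [CommRing C] [Algebra A₀ B] [Algebra A₀ C]

/-- Two homomorphisms which agree over the colimit agree at a stage. -/
theorem map_eq [Algebra.FiniteType A₀ B] (u u' : B →ₐ[A₀] C)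
    (h : Algebra.TensorProduct.map (AlgHom.id A₀ A) u = Algebra.TensorProduct.map (AlgHom.id A₀ A) u') :
    ∃ i, Algebra.TensorProduct.map (AlgHom.id A₀ (G i)) u =
      Algebra.TensorProduct.map (AlgHom.id A₀ (G i)) u' := by
  obtain ⟨s, hs⟩ := ‹Algebra.FiniteType A₀ B›.out
  obtain ⟨l⟩ := S.nonempty
  obtain ⟨j, ψ, -, h0⟩ := S.vanish_tmul_finite C l
    (fun b : (s : Set B) => 1 ⊗ₜ u (b : B) - 1 ⊗ₜ u' (b : B)) (fun b => by
      have := AlgHom.congr_fun h ((1 : A) ⊗ₜ (b : B))
      rw [Algebra.TensorProduct.map_tmul, Algebra.TensorProduct.map_tmul, AlgHom.id_apply] at this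
      rw [map_sub, LinearMap.rTensor_tmul, LinearMap.rTensor_tmul, AlgHom.toLinearMap_apply, map_one,
        this, sub_self])
  have hb : (Algebra.TensorProduct.includeRight : C →ₐ[A₀] G j ⊗[A₀] C).comp u =
      Algebra.TensorProduct.includeRight.comp u' := AlgHom.ext_of_adjoin_eq_top hs fun b hb => by
    have := h0 ⟨b, hb⟩
    rw [map_sub, LinearMap.rTensor_tmul, LinearMap.rTensor_tmul, AlgHom.toLinearMap_apply, map_one,
      sub_eq_zero] at this
    exact this
  refine ⟨j, Algebra.TensorProduct.ext' fun r b => ?_⟩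
  have := congrArg (fun y => (r ⊗ₜ (1 : C)) * y) (AlgHom.congr_fun hb b)
  simpa using this

/-- A homomorphism which is surjective over the colimit is surjective at a stage. -/
theorem map_surjective [Algebra.FiniteType A₀ C] (u : B →ₐ[A₀] C)
    (h : Function.Surjective (Algebra.TensorProduct.map (AlgHom.id A₀ A) u)) :
    ∃ i, Function.Surjective (Algebra.TensorProduct.map (AlgHom.id A₀ (G i)) u) := by
  classical
  obtain ⟨s, hs⟩ := ‹Algebra.FiniteType A₀ C›.out
  have nat : ∀ (X Y : Type u) [CommRing X] [CommRing Y] [Algebra A₀ X] [Algebra A₀ Y]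
      (φ : X →ₐ[A₀] Y) (y : X ⊗[A₀] B),
      φ.toLinearMap.rTensor C (Algebra.TensorProduct.map (AlgHom.id A₀ X) u y) =
        Algebra.TensorProduct.map (AlgHom.id A₀ Y) u (φ.toLinearMap.rTensor B y) := by
    intro X Y _ _ _ _ φ y
    induction y using TensorProduct.induction_on with
    | zero => rw [map_zero, map_zero, map_zero, map_zero]
    | add a b ha hb => rw [map_add, map_add, map_add, map_add, ha, hb]
    | tmul a b => rfl
  choose y hy using fun c : (s : Set C) => h (1 ⊗ₜ (c : C))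
  obtain ⟨i, y', hy'⟩ : ∃ i, ∃ y' : ↥(s : Set C) → G i ⊗[A₀] B,
      ∀ c, (g i).toLinearMap.rTensor B (y' c) = y c := by
    suffices ∀ T : Finset (s : Set C), ∃ i, ∃ y' : ↥(s : Set C) → G i ⊗[A₀] B,
        ∀ c ∈ T, (g i).toLinearMap.rTensor B (y' c) = y c by
      obtain ⟨i, y', hy'⟩ := this Finset.univ
      exact ⟨i, y', fun c => hy' c (Finset.mem_univ c)⟩
    intro T
    induction T using Finset.induction with
    | empty => exact ⟨S.nonempty.some, fun _ => 0, by simp⟩
    | insert a T ha ih =>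
      obtain ⟨i, x, hx⟩ := ih
      obtain ⟨i', x', hx'⟩ := S.surj_tmul B (y a)
      obtain ⟨j, φ, φ', h, h'⟩ := S.dir i i'
      refine ⟨j, Function.update (fun k => φ.toLinearMap.rTensor B (x k)) a
        (φ'.toLinearMap.rTensor B x'), fun k hk => ?_⟩
      rcases Finset.mem_insert.1 hk with rfl | hk
      · rw [Function.update_self, ← LinearMap.rTensor_comp_apply, ← AlgHom.comp_toLinearMap, h', hx']
      · rw [Function.update_of_ne (ne_of_mem_of_not_mem hk ha), ← LinearMap.rTensor_comp_apply,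
          ← AlgHom.comp_toLinearMap, h, hx k hk]
  obtain ⟨j, ψ, -, h0⟩ := S.vanish_tmul_finite C i
    (fun c => Algebra.TensorProduct.map (AlgHom.id A₀ (G i)) u (y' c) - 1 ⊗ₜ (c : C)) (fun c => by
      rw [map_sub, nat, hy', hy, LinearMap.rTensor_tmul, AlgHom.toLinearMap_apply, map_one, sub_self])
  refine ⟨j, ?_⟩
  let R := (Algebra.TensorProduct.map (AlgHom.id A₀ (G j)) u).range
  have hc : ∀ c : C, (1 : G j) ⊗ₜ c ∈ R := fun c => by
    have : (⊤ : Subalgebra A₀ C) ≤ R.comap Algebra.TensorProduct.includeRight := by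
      rw [← hs, Algebra.adjoin_le_iff]
      intro c hc
      have := h0 ⟨c, hc⟩
      rw [map_sub, nat, LinearMap.rTensor_tmul, AlgHom.toLinearMap_apply, map_one, sub_eq_zero] at this
      exact ⟨_, this⟩
    exact this Algebra.mem_top
  intro z
  suffices z ∈ R from this
  induction z using TensorProduct.induction_on with
  | zero => exact R.zero_mem
  | add a b ha hb => exact R.add_mem ha hb
  | tmul r c =>
    have hr : r ⊗ₜ (1 : C) ∈ R := ⟨r ⊗ₜ 1, by simp⟩
    have := R.mul_mem hr (hc c)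
    rwa [Algebra.TensorProduct.tmul_mul_tmul, mul_one, one_mul] at this

end IsStage

end GrothLib.RingStage
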