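import Mathlib
import Groth.Agent.Lib.FlatLimit.Global

/-!
# Faithfully flat algebras of finite presentation have noetherian models
-/

universe u

set_option linter.style.haveILetI false

noncomputable section

namespace GrothLib.RingStage

open scoped TensorProduct
open PrimeSpectrum

/-- The image of a base change contains the preimage of the image. -/
theorem mem_range_comap_baseChange (S T C : Type u) [CommRing S] [CommRing T] [CommRing C]
    [Algebra S T] [Algebra S C] (P : PrimeSpectrum T)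
    (h : PrimeSpectrum.comap (algebraMap S T) P ∈ Set.range (PrimeSpectrum.comap (algebraMap S C))) :
    P ∈ Set.range (PrimeSpectrum.comap (algebraMap T (T ⊗[S] C))) := by
  rw [← nontrivial_iff_mem_rangeComap] at h ⊢
  let p : Ideal S := P.asIdeal.comap (algebraMap S T)
  haveI : P.asIdeal.LiesOver p := ⟨rfl⟩
  haveI : Nontrivial (p.ResidueField ⊗[S] C) := h
  letI : Algebra p.ResidueField P.asIdeal.ResidueField :=
    (Ideal.ResidueField.mapₐ p P.asIdeal (Algebra.ofId S T) rfl).toRingHom.toAlgebra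
  haveI : IsScalarTower S p.ResidueField P.asIdeal.ResidueField :=
    IsScalarTower.of_algebraMap_eq fun x =>
      ((Ideal.ResidueField.mapₐ p P.asIdeal (Algebra.ofId S T) rfl).commutes x).symm
  let e := Algebra.TensorProduct.cancelBaseChange S p.ResidueField p.ResidueField
    P.asIdeal.ResidueField C
  let e' := Algebra.TensorProduct.cancelBaseChange S T T P.asIdeal.ResidueField C
  haveI : Nontrivial (P.asIdeal.ResidueField ⊗[p.ResidueField] (p.ResidueField ⊗[S] C)) :=
    Module.FaithfullyFlat.lTensor_nontrivial p.ResidueField P.asIdeal.ResidueField _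
  exact (e'.toEquiv.trans e.toEquiv.symm).nontrivial

/-- The image of a flat algebra of finite presentation is open. -/
theorem exists_ideal_range (S C : Type u) [CommRing S] [CommRing C] [Algebra S C] [Module.Flat S C]
    [Algebra.FinitePresentation S C] :
    ∃ I : Ideal S, ∀ p : PrimeSpectrum S,
      p ∈ Set.range (PrimeSpectrum.comap (algebraMap S C)) ↔ ¬ I ≤ p.asIdeal := by
  have hU : IsOpen (Set.range (PrimeSpectrum.comap (algebraMap S C))) :=
    (PrimeSpectrum.isOpenMap_comap_of_hasGoingDown_of_finitePresentation (R := S) (S := C)).isOpen_range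
  obtain ⟨I, hI⟩ := (PrimeSpectrum.isClosed_iff_zeroLocus_ideal _).1 hU.isClosed_compl
  refine ⟨I, fun p => ?_⟩
  rw [← SetLike.coe_subset_coe, ← PrimeSpectrum.mem_zeroLocus, ← hI, Set.notMem_compl_iff]

theorem map_eq_top_of_faithfullyFlat (S A C : Type u) [CommRing S] [CommRing A] [CommRing C]
    [Algebra S A] [Algebra S C] [Module.FaithfullyFlat A (A ⊗[S] C)] (I : Ideal S)
    (hI : ∀ p : PrimeSpectrum S,
      p ∈ Set.range (PrimeSpectrum.comap (algebraMap S C)) → ¬ I ≤ p.asIdeal) :
    I.map (algebraMap S A) = ⊤ := by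
  by_contra h
  obtain ⟨Q, hQ, hIQ⟩ := Ideal.exists_le_maximal _ h
  obtain ⟨q, hq⟩ := PrimeSpectrum.comap_surjective_of_faithfullyFlat (A := A) (B := A ⊗[S] C)
    ⟨Q, hQ.isPrime⟩
  refine hI (PrimeSpectrum.comap (algebraMap S A) ⟨Q, hQ.isPrime⟩)
    ⟨PrimeSpectrum.comap (Algebra.TensorProduct.includeRight : C →ₐ[S] A ⊗[S] C).toRingHom q, ?_⟩
    (Ideal.map_le_iff_le_comap.1 hIQ)
  rw [← hq, ← PrimeSpectrum.comap_comp_apply, ← PrimeSpectrum.comap_comp_apply]
  congr 1
  exact (Algebra.TensorProduct.includeRight : C →ₐ[S] A ⊗[S] C).comp_algebraMap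

theorem faithfullyFlat_baseChange_of_map_eq_top (S T C : Type u) [CommRing S] [CommRing T]
    [CommRing C] [Algebra S T] [Algebra S C] [Module.Flat S C] (I : Ideal S)
    (hI : ∀ p : PrimeSpectrum S,
      ¬ I ≤ p.asIdeal → p ∈ Set.range (PrimeSpectrum.comap (algebraMap S C)))
    (h : I.map (algebraMap S T) = ⊤) : Module.FaithfullyFlat T (T ⊗[S] C) :=
  Module.FaithfullyFlat.of_comap_surjective fun p =>
    mem_range_comap_baseChange S T C p (hI _ fun hp =>
      p.2.ne_top (top_le_iff.1 (h ▸ Ideal.map_le_iff_le_comap.2 hp)))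

/-- Faithful flatness holds over a finitely generated subalgebra. -/
theorem exists_fg_faithfullyFlat (A' A B' : Type u) [CommRing A'] [CommRing A] [Algebra A' A]
    [CommRing B'] [Algebra A' B'] [Algebra.FinitePresentation A' B']
    [Module.FaithfullyFlat A (A ⊗[A'] B')] :
    ∃ S' : Subalgebra A' A, S'.FG ∧ Module.FaithfullyFlat S' (S' ⊗[A'] B') := by
  classical
  -- flatness at a stage
  obtain ⟨⟨S, hS⟩, hflat⟩ := GrothLib.FlatLimit.exists_stage_flat (A₀ := A') (A := A)
    (fun S : {S : Subalgebra A' A // S.FG} => S.1)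
    (fun S S' => ⟨⟨S.1 ⊔ S'.1, S.2.sup S'.2⟩, Subalgebra.inclusion le_sup_left,
      Subalgebra.inclusion le_sup_right, fun _ => rfl, fun _ => rfl⟩)
    (fun T => ⟨⟨Algebra.adjoin A' (T : Set A), Subalgebra.fg_adjoin_finset T⟩,
      fun x hx => ⟨⟨x, Algebra.subset_adjoin hx⟩, rfl⟩⟩)
    (fun S p hp => ⟨S, AlgHom.id _ _, fun _ => rfl, fun x hx => Subtype.ext (hp x hx)⟩)
    B' B'
  -- the image is open
  obtain ⟨I, hI⟩ := exists_ideal_range S (S ⊗[A'] B')
  haveI : Module.FaithfullyFlat A (A ⊗[S] (S ⊗[A'] B')) := .of_linearEquiv A (A ⊗[A'] B')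
    (Algebra.TensorProduct.cancelBaseChange A' S A A B').toLinearEquiv
  have htop : I.map (algebraMap S A) = ⊤ :=
    map_eq_top_of_faithfullyFlat S A (S ⊗[A'] B') I fun p => (hI p).1
  -- spread out
  obtain ⟨c, hc, hc1⟩ := Submodule.mem_span_set.1
    (show (1 : A) ∈ Submodule.span A (algebraMap S A '' (I : Set S)) from
      (Ideal.eq_top_iff_one _).1 htop)
  let S' : Subalgebra A' A := S ⊔ Algebra.adjoin A' (c.support.image c : Set A)
  have hS' : S'.FG := hS.sup (Subalgebra.fg_adjoin_finset _)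
  letI : Algebra S S' := (Subalgebra.inclusion (le_sup_left : S ≤ S')).toAlgebra
  haveI : IsScalarTower A' S S' := IsScalarTower.of_algebraMap_eq fun _ => rfl
  have hI' : I.map (algebraMap S S') = ⊤ := by
    rw [Ideal.eq_top_iff_one]
    have hT : ∀ x ∈ c.support, c x ∈ S' := fun x hx =>
      (le_sup_right : _ ≤ S') (Algebra.subset_adjoin (Finset.mem_image_of_mem c hx))
    choose a haI ha using fun x : c.support => hc x.2
    have : ∑ x ∈ c.support.attach, (⟨c x, hT _ x.2⟩ : S') * algebraMap S S' (a x) = 1 := by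
      apply Subtype.ext
      rw [AddSubmonoidClass.coe_finsetSum, OneMemClass.coe_one, ← hc1, Finsupp.sum,
        ← Finset.sum_attach c.support]
      exact Finset.sum_congr rfl fun x _ => by
        show c x * (a x : A) = c x • (x : A)
        rw [smul_eq_mul, ← ha x]; rfl
    rw [← this]
    exact Ideal.sum_mem _ fun x _ => Ideal.mul_mem_left _ _ (Ideal.mem_map_of_mem _ (haI x))
  let e' := Algebra.TensorProduct.cancelBaseChange A' S S' S' B'
  haveI := faithfullyFlat_baseChange_of_map_eq_top S S' (S ⊗[A'] B') I (fun p => (hI p).2) hI'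
  exact ⟨S', hS', .of_linearEquiv S' (S' ⊗[S] (S ⊗[A'] B')) e'.symm.toLinearEquiv⟩

/-- A faithfully flat algebra of finite presentation is the base change of one over a finitely
generated subring. -/
theorem exists_model_faithfullyFlat (A B : Type u) [CommRing A] [CommRing B] [Algebra A B]
    [Algebra.FinitePresentation A B] [Module.FaithfullyFlat A B] :
    ∃ (A' : Type u) (B' : Type u) (_ : CommRing A') (_ : CommRing B') (_ : Algebra A' A)
      (_ : Algebra A' B'), Algebra.FinitePresentation ℤ A' ∧ Algebra.FinitePresentation A' B' ∧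
      Module.FaithfullyFlat A' B' ∧ Nonempty (B ≃ₐ[A] A ⊗[A'] B') := by
  classical
  let P := Algebra.Presentation.ofFinitePresentation A B
  let A' : Subalgebra ℤ A := Algebra.adjoin ℤ P.coeffs
  haveI : P.HasCoeffs A' := ⟨by simp [A']⟩
  let B' := P.ModelOfHasCoeffs A'
  let e : A ⊗[A'] B' ≃ₐ[A] B := P.tensorModelOfHasCoeffsEquiv A'
  haveI : Module.FaithfullyFlat A (A ⊗[A'] B') := .of_linearEquiv A B e.toLinearEquiv
  obtain ⟨S', hS', _⟩ := exists_fg_faithfullyFlat A' A B'
  haveI : Algebra.FiniteType A' S' := S'.fg_iff_finiteType.1 hS'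
  haveI : Algebra.FiniteType ℤ A' :=
    A'.fg_iff_finiteType.1 ⟨P.finite_coeffs.toFinset, by simp [A']⟩
  haveI : Algebra.FiniteType ℤ S' := Algebra.FiniteType.trans ‹_› ‹Algebra.FiniteType A' S'›
  exact ⟨S', S' ⊗[A'] B', inferInstance, inferInstance, inferInstance, inferInstance,
    Algebra.FinitePresentation.of_finiteType.1 inferInstance, inferInstance, inferInstance,
    ⟨e.symm.trans (Algebra.TensorProduct.cancelBaseChange A' S' A A B').symm⟩⟩

/-- The same, over any base ring of `A`. -/
theorem exists_model_faithfullyFlat_over (R A B : Type u) [CommRing R] [CommRing A] [CommRing B]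
    [Algebra R A] [Algebra A B] [Algebra.FinitePresentation A B] [Module.FaithfullyFlat A B] :
    ∃ (A₀ B₀ : Type u) (_ : CommRing A₀) (_ : CommRing B₀) (_ : Algebra R A₀) (_ : Algebra A₀ A)
      (_ : IsScalarTower R A₀ A) (_ : Algebra A₀ B₀), Algebra.FinitePresentation R A₀ ∧
      Algebra.FinitePresentation A₀ B₀ ∧ Module.FaithfullyFlat A₀ B₀ ∧
      Nonempty (B ≃ₐ[A] A ⊗[A₀] B₀) := by
  obtain ⟨A', B', _, _, _, _, _, _, _, ⟨e⟩⟩ := exists_model_faithfullyFlat A B
  let φ : R ⊗[ℤ] A' →ₐ[R] A :=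
    Algebra.TensorProduct.lift (Algebra.ofId R A) (algebraMap A' A).toIntAlgHom fun _ _ => Commute.all _ _
  letI : Algebra (R ⊗[ℤ] A') A := φ.toRingHom.toAlgebra
  haveI : IsScalarTower R (R ⊗[ℤ] A') A := IsScalarTower.of_algebraMap_eq fun r => (φ.commutes r).symm
  letI : Algebra A' (R ⊗[ℤ] A') := Algebra.TensorProduct.rightAlgebra
  haveI : IsScalarTower A' (R ⊗[ℤ] A') A := IsScalarTower.of_algebraMap_eq fun a => by
    show algebraMap A' A a = φ (1 ⊗ₜ a)
    simp [φ]
  exact ⟨R ⊗[ℤ] A', (R ⊗[ℤ] A') ⊗[A'] B', inferInstance, inferInstance, inferInstance,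
    inferInstance, inferInstance, inferInstance, inferInstance, inferInstance, inferInstance,
    ⟨e.trans (Algebra.TensorProduct.cancelBaseChange A' (R ⊗[ℤ] A') A A B').symm⟩⟩

end GrothLib.RingStage
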