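import Mathlib
import Groth.Agent.Lib.RingStage.Basic

/-!
# Properties of base changes that hold at a stage
-/

universe u v

noncomputable section

namespace GrothLib.RingStage

open scoped TensorProduct
open Polynomial

variable {A₀ : Type u} [CommRing A₀] (B₀ : Type u) [CommRing B₀] [Algebra A₀ B₀]

/-- Change of stage on `B₀ ⊗ X`. -/
abbrev trR {X Y : Type u} [CommRing X] [CommRing Y] [Algebra A₀ X] [Algebra A₀ Y]
    (ψ : X →ₐ[A₀] Y) : B₀ ⊗[A₀] X →ₐ[B₀] B₀ ⊗[A₀] Y :=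
  Algebra.TensorProduct.map (AlgHom.id B₀ B₀) ψ

theorem trR_trR {X Y Z : Type u} [CommRing X] [CommRing Y] [CommRing Z] [Algebra A₀ X]
    [Algebra A₀ Y] [Algebra A₀ Z] (ψ : X →ₐ[A₀] Y) (φ : Y →ₐ[A₀] Z) (z : B₀ ⊗[A₀] X) :
    trR B₀ φ (trR B₀ ψ z) = trR B₀ (φ.comp ψ) z := by
  rw [← AlgHom.comp_apply, ← Algebra.TensorProduct.map_comp, AlgHom.comp_id]

variable (C : Type u) [CommRing C] [Algebra B₀ C]

/-- Change of stage on `(B₀ ⊗ X) ⊗ C`. -/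
abbrev trA {X Y : Type u} [CommRing X] [CommRing Y] [Algebra A₀ X] [Algebra A₀ Y]
    (ψ : X →ₐ[A₀] Y) : (B₀ ⊗[A₀] X) ⊗[B₀] C →ₐ[B₀] (B₀ ⊗[A₀] Y) ⊗[B₀] C :=
  Algebra.TensorProduct.map (trR B₀ ψ) (AlgHom.id B₀ C)

theorem trA_eq_tr {X Y : Type u} [CommRing X] [CommRing Y] [Algebra A₀ X] [Algebra A₀ Y]
    (ψ : X →ₐ[A₀] Y) (z : (B₀ ⊗[A₀] X) ⊗[B₀] C) : trA B₀ C ψ z = tr B₀ C ψ z := by
  induction z using TensorProduct.induction_on with
  | zero => simp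
  | add a b ha hb => rw [map_add, map_add, ha, hb]
  | tmul w m => rw [tr_tmul]; rfl

theorem trA_trA {X Y Z : Type u} [CommRing X] [CommRing Y] [CommRing Z] [Algebra A₀ X]
    [Algebra A₀ Y] [Algebra A₀ Z] (ψ : X →ₐ[A₀] Y) (φ : Y →ₐ[A₀] Z)
    (z : (B₀ ⊗[A₀] X) ⊗[B₀] C) : trA B₀ C φ (trA B₀ C ψ z) = trA B₀ C (φ.comp ψ) z := by
  rw [trA_eq_tr, trA_eq_tr, trA_eq_tr, tr_tr]

theorem trA_algebraMap {X Y : Type u} [CommRing X] [CommRing Y] [Algebra A₀ X] [Algebra A₀ Y]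
    (ψ : X →ₐ[A₀] Y) (r : B₀ ⊗[A₀] X) :
    trA B₀ C ψ (algebraMap _ ((B₀ ⊗[A₀] X) ⊗[B₀] C) r) = algebraMap _ _ (trR B₀ ψ r) := by
  simp [Algebra.TensorProduct.algebraMap_apply]

theorem trA_one_tmul {X Y : Type u} [CommRing X] [CommRing Y] [Algebra A₀ X] [Algebra A₀ Y]
    (ψ : X →ₐ[A₀] Y) (c : C) : trA B₀ C ψ (1 ⊗ₜ c) = 1 ⊗ₜ c := by
  simp

/-- Subalgebras containing the scalars and all `1 ⊗ c` are everything. -/
theorem eq_top_of_gens {R : Type u} [CommRing R] [Algebra B₀ R] {s : Set C}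
    (hs : Algebra.adjoin B₀ s = ⊤) (T : Subalgebra R (R ⊗[B₀] C))
    (h : ∀ c ∈ s, (1 : R) ⊗ₜ[B₀] c ∈ T) : T = ⊤ := by
  have hc : ∀ c : C, (1 : R) ⊗ₜ[B₀] c ∈ T := fun c => by
    have : (⊤ : Subalgebra B₀ C) ≤
        (T.restrictScalars B₀).comap (Algebra.TensorProduct.includeRight (A := R)) := by
      rw [← hs, Algebra.adjoin_le_iff]
      exact h
    exact this Algebra.mem_top
  refine eq_top_iff.2 fun z _ => ?_
  induction z using TensorProduct.induction_on with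
  | zero => exact T.zero_mem
  | add a b ha hb => exact T.add_mem (ha Algebra.mem_top) (hb Algebra.mem_top)
  | tmul r c =>
    have : r ⊗ₜ[B₀] c = r • ((1 : R) ⊗ₜ[B₀] c) := by rw [TensorProduct.smul_tmul', smul_eq_mul, mul_one]
    rw [this]
    exact T.smul_mem (hc c) r

variable {ι : Type v} {G : ι → Type u} [∀ i, CommRing (G i)] [∀ i, Algebra A₀ (G i)]
  {A : Type u} [CommRing A] [Algebra A₀ A] {g : ∀ i, G i →ₐ[A₀] A}

namespace IsStage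

variable (S : IsStage A₀ G A g)
include S

/-- Finitely many elements of `B₀ ⊗ A` lift to one stage. -/
theorem liftR {κ : Type*} [Finite κ] (r : κ → B₀ ⊗[A₀] A) :
    ∃ i, ∃ r' : κ → B₀ ⊗[A₀] G i, ∀ k, trR B₀ (g i) (r' k) = r k := by
  obtain ⟨i, x, hx⟩ := S.lift_tr B₀ B₀ fun k => r k ⊗ₜ[B₀] (1 : B₀)
  refine ⟨i, fun k => Algebra.TensorProduct.rid B₀ B₀ _ (x k), fun k => ?_⟩
  have h : ∀ z : (B₀ ⊗[A₀] G i) ⊗[B₀] B₀, trR B₀ (g i) (Algebra.TensorProduct.rid B₀ B₀ _ z) =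
      Algebra.TensorProduct.rid B₀ B₀ _ (tr B₀ B₀ (g i) z) := fun z => by
    induction z using TensorProduct.induction_on with
    | zero => simp
    | add a b ha hb => simp only [map_add, ha, hb]
    | tmul w m =>
      rw [tr_tmul, Algebra.TensorProduct.rid_tmul, Algebra.TensorProduct.rid_tmul, map_smul]
  rw [h, hx, Algebra.TensorProduct.rid_tmul, one_smul]

/-- Surjectivity holds at a stage, and then at every later one. -/
theorem surjective [Algebra.FiniteType B₀ C]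
    (h : Function.Surjective (algebraMap (B₀ ⊗[A₀] A) ((B₀ ⊗[A₀] A) ⊗[B₀] C))) :
    ∃ i, ∀ (Y : Type u) [CommRing Y] [Algebra A₀ Y] (_ : G i →ₐ[A₀] Y),
      Function.Surjective (algebraMap (B₀ ⊗[A₀] Y) ((B₀ ⊗[A₀] Y) ⊗[B₀] C)) := by
  obtain ⟨s, hs⟩ := ‹Algebra.FiniteType B₀ C›.out
  choose r hr using fun c : (s : Set C) => h (1 ⊗ₜ[B₀] (c : C))
  obtain ⟨i, r', hr'⟩ := S.liftR B₀ r
  obtain ⟨j, ψ, hψ, h0⟩ := S.vanish_tr_finite B₀ C i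
    (fun c => algebraMap _ _ (r' c) - 1 ⊗ₜ[B₀] (c : C)) (fun c => by
      rw [← trA_eq_tr, map_sub, trA_algebraMap, hr', trA_one_tmul, hr, sub_self])
  refine ⟨j, fun Y _ _ φ => ?_⟩
  have : (Algebra.ofId (B₀ ⊗[A₀] Y) ((B₀ ⊗[A₀] Y) ⊗[B₀] C)).range = ⊤ :=
    eq_top_of_gens B₀ C hs _ fun c hc => by
      have := congrArg (trA B₀ C φ) (h0 ⟨c, hc⟩)
      rw [map_zero, ← trA_eq_tr, trA_trA, map_sub, trA_algebraMap, trA_one_tmul, sub_eq_zero] at this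
      exact ⟨_, this⟩
  exact fun x => by
    obtain ⟨y, hy⟩ := this.ge (Algebra.mem_top (x := x))
    exact ⟨y, hy⟩

/-- Finiteness holds at a stage, and then at every later one. -/
theorem finite [Algebra.FiniteType B₀ C]
    (h : Module.Finite (B₀ ⊗[A₀] A) ((B₀ ⊗[A₀] A) ⊗[B₀] C)) :
    ∃ i, ∀ (Y : Type u) [CommRing Y] [Algebra A₀ Y] (_ : G i →ₐ[A₀] Y),
      Module.Finite (B₀ ⊗[A₀] Y) ((B₀ ⊗[A₀] Y) ⊗[B₀] C) := by
  classical
  obtain ⟨s, hs⟩ := ‹Algebra.FiniteType B₀ C›.out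
  choose p hpm hp using fun c : (s : Set C) =>
    Algebra.IsIntegral.isIntegral (R := B₀ ⊗[A₀] A) ((1 : B₀ ⊗[A₀] A) ⊗ₜ[B₀] (c : C))
  let T : Finset (B₀ ⊗[A₀] A) := Finset.univ.biUnion fun c => (p c).coeffs
  obtain ⟨i, r', hr'⟩ := S.liftR B₀ fun x : {x // x ∈ T} => x.1
  have hl : ∀ c, p c ∈ lifts (trR B₀ (g i)).toRingHom := fun c => by
    rw [lifts_iff_coeff_lifts]
    intro n
    rcases eq_or_ne ((p c).coeff n) 0 with h0 | h0
    · exact ⟨0, by rw [map_zero, h0]⟩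
    · exact ⟨r' ⟨_, Finset.mem_biUnion.2 ⟨c, Finset.mem_univ _, coeff_mem_coeffs h0⟩⟩, hr' _⟩
  choose q hqp _ hqm using fun c => lifts_and_natDegree_eq_and_monic (hl c) (hpm c)
  have key : ∀ (X Y : Type u) [CommRing X] [CommRing Y] [Algebra A₀ X] [Algebra A₀ Y]
      (φ : X →ₐ[A₀] Y) (f : Polynomial (B₀ ⊗[A₀] X)) (c : C),
      trA B₀ C φ (eval₂ (algebraMap _ _) ((1 : B₀ ⊗[A₀] X) ⊗ₜ[B₀] c) f) =
        eval₂ (algebraMap _ _) ((1 : B₀ ⊗[A₀] Y) ⊗ₜ[B₀] c) (f.map (trR B₀ φ).toRingHom) := by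
    intro X Y _ _ _ _ φ f c
    rw [← AlgHom.coe_toRingHom, hom_eval₂, eval₂_map, AlgHom.coe_toRingHom, trA_one_tmul]
    exact congrArg (fun k => eval₂ k _ f) (RingHom.ext fun x => trA_algebraMap B₀ C φ x)
  obtain ⟨j, ψ, hψ, h0⟩ := S.vanish_tr_finite B₀ C i
    (fun c : (s : Set C) => eval₂ (algebraMap _ _) ((1 : B₀ ⊗[A₀] G i) ⊗ₜ[B₀] (c : C)) (q c)) (fun c => by
      rw [← trA_eq_tr, key, hqp]; exact hp c)
  refine ⟨j, fun Y _ _ φ => ?_⟩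
  haveI : Algebra.IsIntegral (B₀ ⊗[A₀] Y) ((B₀ ⊗[A₀] Y) ⊗[B₀] C) := by
    rw [← integralClosure_eq_top_iff]
    refine eq_top_of_gens B₀ C hs _ fun c hc => ?_
    refine ⟨(q ⟨c, hc⟩).map (trR B₀ (φ.comp ψ)).toRingHom, (hqm _).map _, ?_⟩
    rw [← key, ← trA_trA, trA_eq_tr B₀ C ψ, h0 ⟨c, hc⟩, map_zero]
  exact Algebra.IsIntegral.finite

/-- Unramifiedness holds at a stage, and then at every later one. -/
theorem unramified [Algebra.FiniteType B₀ C]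
    (h : Algebra.FormallyUnramified (B₀ ⊗[A₀] A) ((B₀ ⊗[A₀] A) ⊗[B₀] C)) :
    ∃ i, ∀ (Y : Type u) [CommRing Y] [Algebra A₀ Y] (_ : G i →ₐ[A₀] Y),
      Algebra.Unramified (B₀ ⊗[A₀] Y) ((B₀ ⊗[A₀] Y) ⊗[B₀] C) := by
  obtain ⟨s, hs⟩ := ‹Algebra.FiniteType B₀ C›.out
  haveI : Subsingleton ((B₀ ⊗[A₀] A) ⊗[B₀] Ω[C⁄B₀]) := by
    let _ : Algebra C ((B₀ ⊗[A₀] A) ⊗[B₀] C) := Algebra.TensorProduct.rightAlgebra
    exact (KaehlerDifferential.tensorKaehlerEquivBase B₀ (B₀ ⊗[A₀] A) C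
      ((B₀ ⊗[A₀] A) ⊗[B₀] C)).subsingleton
  obtain ⟨i⟩ := S.nonempty
  obtain ⟨j, ψ, hψ, h0⟩ := S.vanish_tr_finite B₀ Ω[C⁄B₀] i
    (fun c : (s : Set C) => 1 ⊗ₜ[B₀] KaehlerDifferential.D B₀ C c) (fun c => Subsingleton.elim _ _)
  refine ⟨j, fun Y _ _ φ => ?_⟩
  have hgen : ∀ c ∈ s, ∀ x : B₀ ⊗[A₀] Y, x ⊗ₜ[B₀] KaehlerDifferential.D B₀ C c = 0 := by
    intro c hc x
    have := congrArg (tr B₀ Ω[C⁄B₀] φ) (h0 ⟨c, hc⟩)
    rw [map_zero, tr_tr, tr_tmul, map_one] at this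
    rw [← mul_one x, ← smul_eq_mul, ← TensorProduct.smul_tmul', this, smul_zero]
  have hmul : ∀ (c : C) (m : Ω[C⁄B₀]), (∀ x : B₀ ⊗[A₀] Y, x ⊗ₜ[B₀] m = 0) →
      ∀ x : B₀ ⊗[A₀] Y, x ⊗ₜ[B₀] (c • m) = 0 := fun c m hm x => by
    have := congrArg (((LinearMap.lsmul C Ω[C⁄B₀] c).restrictScalars B₀).lTensor (B₀ ⊗[A₀] Y)) (hm x)
    rwa [map_zero, LinearMap.lTensor_tmul] at this
  let V : Subalgebra B₀ C :=
    { carrier := {c | ∀ x : B₀ ⊗[A₀] Y, x ⊗ₜ[B₀] KaehlerDifferential.D B₀ C c = 0}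
      mul_mem' := fun {a b} ha hb x => by
        rw [Derivation.leibniz, TensorProduct.tmul_add, hmul a _ hb, hmul b _ ha, add_zero]
      add_mem' := fun {a b} ha hb x => by rw [map_add, TensorProduct.tmul_add, ha, hb, add_zero]
      algebraMap_mem' := fun b x => by
        rw [Derivation.map_algebraMap, TensorProduct.tmul_zero] }
  have hV : ∀ c, c ∈ V := fun c =>
    (show (⊤ : Subalgebra B₀ C) ≤ V by rw [← hs, Algebra.adjoin_le_iff]; exact hgen) Algebra.mem_top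
  haveI : Subsingleton ((B₀ ⊗[A₀] Y) ⊗[B₀] Ω[C⁄B₀]) := by
    refine subsingleton_of_forall_eq 0 fun z => ?_
    induction z using TensorProduct.induction_on with
    | zero => rfl
    | add a b ha hb => rw [ha, hb, add_zero]
    | tmul x m =>
      have hm : m ∈ Submodule.span C (Set.range (KaehlerDifferential.D B₀ C)) := by
        rw [KaehlerDifferential.span_range_derivation]; trivial
      revert x
      induction hm using Submodule.span_induction with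
      | mem m hm => obtain ⟨c, rfl⟩ := hm; exact hV c
      | zero => exact fun x => TensorProduct.tmul_zero _ _
      | add a b _ _ ha hb => exact fun x => by rw [TensorProduct.tmul_add, ha, hb, add_zero]
      | smul c m _ hm => exact hmul c m hm
  refine ⟨⟨?_⟩, inferInstance⟩
  let _ : Algebra C ((B₀ ⊗[A₀] Y) ⊗[B₀] C) := Algebra.TensorProduct.rightAlgebra
  exact (KaehlerDifferential.tensorKaehlerEquivBase B₀ (B₀ ⊗[A₀] Y) C
      ((B₀ ⊗[A₀] Y) ⊗[B₀] C)).symm.subsingleton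

/-- Homomorphisms from a finitely presented algebra lift to a stage. -/
theorem lift_hom [Algebra.FinitePresentation B₀ C] (D : Type u) [CommRing D] [Algebra B₀ D]
    (σ : C →ₐ[B₀] (B₀ ⊗[A₀] A) ⊗[B₀] D) :
    ∃ i, ∃ σ' : C →ₐ[B₀] (B₀ ⊗[A₀] G i) ⊗[B₀] D, (trA B₀ D (g i)).comp σ' = σ := by
  classical
  obtain ⟨n, π, hπ, s, hs⟩ := ‹Algebra.FinitePresentation B₀ C›.out
  obtain ⟨i, r', hr'⟩ := S.lift_tr B₀ D fun k => σ (π (MvPolynomial.X k))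
  have nat : ∀ (j : ι) (ψ : G i →ₐ[A₀] G j), (trA B₀ D ψ).comp (MvPolynomial.aeval r') =
      MvPolynomial.aeval fun k => trA B₀ D ψ (r' k) := fun j ψ =>
    MvPolynomial.algHom_ext fun k => by simp
  have hA : (trA B₀ D (g i)).comp (MvPolynomial.aeval r') = σ.comp π :=
    MvPolynomial.algHom_ext fun k => by
      rw [AlgHom.comp_apply, MvPolynomial.aeval_X, trA_eq_tr, hr', AlgHom.comp_apply]
  obtain ⟨j, ψ, hψ, h0⟩ := S.vanish_tr_finite B₀ D i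
    (fun f : (s : Set (MvPolynomial (Fin n) B₀)) => MvPolynomial.aeval r' (f : MvPolynomial (Fin n) B₀))
    (fun f => by
      rw [← trA_eq_tr, ← AlgHom.comp_apply, hA, AlgHom.comp_apply]
      have : (f : MvPolynomial (Fin n) B₀) ∈ RingHom.ker π.toRingHom := hs ▸ Ideal.subset_span f.2
      rw [show π f = 0 from this, map_zero])
  have hker : RingHom.ker π ≤ RingHom.ker ((trA B₀ D ψ).comp (MvPolynomial.aeval r')) := by
    show RingHom.ker π.toRingHom ≤ _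
    rw [← hs, Ideal.span_le]
    intro f hf
    rw [SetLike.mem_coe, RingHom.mem_ker, AlgHom.comp_apply, trA_eq_tr]
    exact h0 ⟨f, hf⟩
  let e := Ideal.quotientKerAlgEquivOfSurjective hπ
  refine ⟨j, (Ideal.Quotient.liftₐ (RingHom.ker π)
    ((trA B₀ D ψ).comp (MvPolynomial.aeval r')) hker).comp e.symm.toAlgHom, ?_⟩
  apply AlgHom.ext
  intro c
  obtain ⟨f, rfl⟩ := hπ c
  have he : e.symm (π f) = Ideal.Quotient.mk _ f := e.symm_apply_eq.2 rfl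
  rw [AlgHom.comp_apply, AlgHom.comp_apply, AlgEquiv.coe_toAlgHom, he]
  show trA B₀ D (g j) (trA B₀ D ψ (MvPolynomial.aeval r' f)) = σ (π f)
  rw [trA_trA, hψ, ← AlgHom.comp_apply, hA, AlgHom.comp_apply]

/-- Bijectivity holds at a stage, and then at every later one. -/
theorem bijective [Algebra.FinitePresentation B₀ C]
    (h : Function.Bijective (algebraMap (B₀ ⊗[A₀] A) ((B₀ ⊗[A₀] A) ⊗[B₀] C))) :
    ∃ i, ∀ (Y : Type u) [CommRing Y] [Algebra A₀ Y] (_ : G i →ₐ[A₀] Y),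
      Function.Bijective (algebraMap (B₀ ⊗[A₀] Y) ((B₀ ⊗[A₀] Y) ⊗[B₀] C)) := by
  obtain ⟨i, hi⟩ := S.surjective B₀ C h.2
  let e := AlgEquiv.ofBijective (Algebra.ofId (B₀ ⊗[A₀] A) ((B₀ ⊗[A₀] A) ⊗[B₀] C)) h
  obtain ⟨i', σ', -⟩ := S.lift_hom B₀ C B₀
    ((Algebra.TensorProduct.rid B₀ B₀ (B₀ ⊗[A₀] A)).symm.toAlgHom.comp
      ((e.symm.toAlgHom.restrictScalars B₀).comp Algebra.TensorProduct.includeRight))
  obtain ⟨j, φ, φ', -, -⟩ := S.dir i i'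
  refine ⟨j, fun Y _ _ ψ => ⟨?_, hi Y (ψ.comp φ)⟩⟩
  let σY : C →ₐ[B₀] B₀ ⊗[A₀] Y :=
    (Algebra.TensorProduct.rid B₀ B₀ (B₀ ⊗[A₀] Y)).toAlgHom.comp
      ((trA B₀ B₀ (ψ.comp φ')).comp σ')
  let ρ : (B₀ ⊗[A₀] Y) ⊗[B₀] C →ₐ[B₀ ⊗[A₀] Y] B₀ ⊗[A₀] Y :=
    Algebra.TensorProduct.lift (AlgHom.id _ _) σY fun _ _ => Commute.all _ _
  exact Function.LeftInverse.injective (g := ρ) fun x => ρ.commutes x

end IsStage

end GrothLib.RingStage
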