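import Mathlib
import Groth.Agent.Lib.RingStage.Basic

/-!
# Smooth and étale algebras over a colimit come from a stage
-/

universe u v

noncomputable section

namespace GrothLib.RingStage

open scoped TensorProduct

theorem ringHom_uliftInt_ext {X : Type u} [Semiring X] (f g : ULift.{u} ℤ →+* X) : f = g := by
  have := RingHom.ext_int (f.comp ULift.ringEquiv.symm.toRingHom) (g.comp ULift.ringEquiv.symm.toRingHom)
  exact RingHom.ext fun x => RingHom.congr_fun this x.down

/-- A ring homomorphism as a homomorphism of `ULift ℤ`-algebras. -/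
def toUliftInt {X Y : Type u} [CommRing X] [CommRing Y] [Algebra (ULift.{u} ℤ) X]
    [Algebra (ULift.{u} ℤ) Y] (f : X →+* Y) : X →ₐ[ULift.{u} ℤ] Y where
  __ := f
  commutes' r := RingHom.congr_fun (ringHom_uliftInt_ext (f.comp (algebraMap _ X)) (algebraMap _ Y)) r

instance : IsNoetherianRing (ULift.{u} ℤ) := isNoetherianRing_of_ringEquiv ℤ ULift.ringEquiv.symm

variable {A₀ : Type u} [CommRing A₀] {ι : Type v} {G : ι → Type u} [∀ i, CommRing (G i)]
  [∀ i, Algebra A₀ (G i)] {A : Type u} [CommRing A] [Algebra A₀ A] {g : ∀ i, G i →ₐ[A₀] A}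

namespace IsStage

/-- Homomorphisms from a finitely presented algebra into the colimit lift to a stage. -/
theorem lift_algHom (S : IsStage A₀ G A g) {C : Type u} [CommRing C] [Algebra A₀ C]
    [Algebra.FinitePresentation A₀ C] (σ : C →ₐ[A₀] A) :
    ∃ i, ∃ σ' : C →ₐ[A₀] G i, (g i).comp σ' = σ := by
  classical
  obtain ⟨n, π, hπ, s, hs⟩ := ‹Algebra.FinitePresentation A₀ C›.out
  obtain ⟨i, hi⟩ := S.lift_finset (Finset.univ.image fun k => σ (π (MvPolynomial.X k)))
  choose r hr using fun k : Fin n => hi (Finset.mem_image_of_mem _ (Finset.mem_univ k))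
  have hA : (g i).comp (MvPolynomial.aeval r) = σ.comp π :=
    MvPolynomial.algHom_ext fun k => by
      rw [AlgHom.comp_apply, MvPolynomial.aeval_X, hr, AlgHom.comp_apply]
  obtain ⟨j, ψ, hψ, h0⟩ := S.vanish_finset i (s.image (MvPolynomial.aeval r)) fun x hx => by
    obtain ⟨f, hf, rfl⟩ := Finset.mem_image.1 hx
    have : f ∈ RingHom.ker π.toRingHom := hs ▸ Ideal.subset_span hf
    rw [← AlgHom.comp_apply, hA, AlgHom.comp_apply, show π f = 0 from this, map_zero]
  have hker : RingHom.ker π ≤ RingHom.ker (ψ.comp (MvPolynomial.aeval r)) := by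
    show RingHom.ker π.toRingHom ≤ _
    rw [← hs, Ideal.span_le]
    exact fun f hf => h0 _ (Finset.mem_image_of_mem _ hf)
  let e := Ideal.quotientKerAlgEquivOfSurjective hπ
  refine ⟨j, (Ideal.Quotient.liftₐ (RingHom.ker π) (ψ.comp (MvPolynomial.aeval r)) hker).comp
    e.symm.toAlgHom, ?_⟩
  apply AlgHom.ext
  intro c
  obtain ⟨f, rfl⟩ := hπ c
  have he : e.symm (π f) = Ideal.Quotient.mk _ f := e.symm_apply_eq.2 rfl
  rw [AlgHom.comp_apply, AlgHom.comp_apply, AlgEquiv.coe_toAlgHom, he]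
  show g j (ψ (MvPolynomial.aeval r f)) = σ (π f)
  rw [← AlgHom.comp_apply, hψ, ← AlgHom.comp_apply, hA, AlgHom.comp_apply]

end IsStage

variable {ι : Type v} {G : ι → Type u} [∀ i, CommRing (G i)] {A : Type u} [CommRing A]
  {g : ∀ i, G i →+* A}

/-- Every ring is an algebra over `ULift ℤ`. -/
scoped instance (priority := 100) uliftIntAlgebra (X : Type u) [CommRing X] : Algebra (ULift.{u} ℤ) X :=
  ((Int.castRingHom X).comp ULift.ringEquiv.toRingHom).toAlgebra

/-- A finitely generated subring of the colimit lifts to a stage. -/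
theorem exists_lift_subalgebra (S : IsStage (ULift.{u} ℤ) G A fun i => toUliftInt (g i))
    (A' : Subalgebra (ULift.{u} ℤ) A) (hA' : A'.FG) :
    ∃ i, ∃ φ : A' →+* G i, (g i).comp φ = algebraMap A' A := by
  haveI : Algebra.FiniteType (ULift.{u} ℤ) A' := A'.fg_iff_finiteType.1 hA'
  haveI : Algebra.FinitePresentation (ULift.{u} ℤ) A' :=
    Algebra.FinitePresentation.of_finiteType.1 inferInstance
  obtain ⟨i, σ, hσ⟩ := S.lift_algHom A'.val
  exact ⟨i, σ.toRingHom, RingHom.ext fun x => AlgHom.congr_fun hσ x⟩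

theorem exists_stage_smooth (S : IsStage (ULift.{u} ℤ) G A fun i => toUliftInt (g i))
    (B : Type u) [CommRing B] [Algebra A B] [Algebra.Smooth A B] :
    ∃ (i : ι) (Bi : Type u) (_ : CommRing Bi) (_ : Algebra (G i) Bi), Algebra.Smooth (G i) Bi ∧
      letI : Algebra (G i) A := (g i).toAlgebra
      Nonempty (B ≃ₐ[A] A ⊗[G i] Bi) := by
  obtain ⟨A', B', _, _, hA', _, ⟨e⟩⟩ := Algebra.Smooth.exists_subalgebra_fg (ULift.{u} ℤ) A B
  obtain ⟨i, φ, hφ⟩ := exists_lift_subalgebra S A' hA'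
  letI : Algebra A' (G i) := φ.toAlgebra
  letI : Algebra (G i) A := (g i).toAlgebra
  haveI : IsScalarTower A' (G i) A := IsScalarTower.of_algebraMap_eq' hφ.symm
  exact ⟨i, G i ⊗[A'] B', inferInstance, inferInstance, inferInstance,
    ⟨e.trans (Algebra.TensorProduct.cancelBaseChange A' (G i) A A B').symm⟩⟩

theorem exists_stage_etale (S : IsStage (ULift.{u} ℤ) G A fun i => toUliftInt (g i))
    (B : Type u) [CommRing B] [Algebra A B] [Algebra.Etale A B] :
    ∃ (i : ι) (Bi : Type u) (_ : CommRing Bi) (_ : Algebra (G i) Bi), Algebra.Etale (G i) Bi ∧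
      letI : Algebra (G i) A := (g i).toAlgebra
      Nonempty (B ≃ₐ[A] A ⊗[G i] Bi) := by
  obtain ⟨A', B', _, _, hA', _, ⟨e⟩⟩ := Algebra.Etale.exists_subalgebra_fg (ULift.{u} ℤ) A B
  obtain ⟨i, φ, hφ⟩ := exists_lift_subalgebra S A' hA'
  letI : Algebra A' (G i) := φ.toAlgebra
  letI : Algebra (G i) A := (g i).toAlgebra
  haveI : IsScalarTower A' (G i) A := IsScalarTower.of_algebraMap_eq' hφ.symm
  exact ⟨i, G i ⊗[A'] B', inferInstance, inferInstance, inferInstance,
    ⟨e.trans (Algebra.TensorProduct.cancelBaseChange A' (G i) A A B').symm⟩⟩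

end GrothLib.RingStage
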