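import Mathlib
import Groth.Agent.Lib.RingStage.Algebra

/-!
# Smoothness holds at a stage
-/

universe u v

noncomputable section

namespace GrothLib.RingStage

open scoped TensorProduct

variable {B₀ : Type u} [CommRing B₀] {C : Type u} [CommRing C] [Algebra B₀ C]
  {P : Type u} [CommRing P] [Algebra B₀ P] (π : P →ₐ[B₀] C)

/-- `P ⧸ ker π ^ 2` after base change, mapping to `R ⊗ C`. -/
abbrev qmap (R : Type u) [CommRing R] [Algebra B₀ R] :
    R ⊗[B₀] (P ⧸ RingHom.ker π.toRingHom ^ 2) →ₐ[R] R ⊗[B₀] C :=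
  Algebra.TensorProduct.map (AlgHom.id R R) π.kerSquareLift

/-- A base change of `π` is split by a section at the level of `B₀`. -/
theorem formallySmooth_of_section [Algebra.FormallySmooth B₀ P] (R : Type u) [CommRing R]
    [Algebra B₀ R] (σ : C →ₐ[B₀] R ⊗[B₀] (P ⧸ RingHom.ker π.toRingHom ^ 2))
    (h : ∀ c, qmap π R (σ c) = 1 ⊗ₜ c) : Algebra.FormallySmooth R (R ⊗[B₀] C) := by
  let f : R ⊗[B₀] P →ₐ[R] R ⊗[B₀] C := Algebra.TensorProduct.map (AlgHom.id R R) π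
  let τ₀ : (P ⧸ RingHom.ker π.toRingHom ^ 2) →ₐ[B₀]
      (R ⊗[B₀] P) ⧸ RingHom.ker f.toRingHom ^ 2 :=
    Ideal.Quotient.liftₐ _ ((Ideal.Quotient.mkₐ B₀ _).comp Algebra.TensorProduct.includeRight)
      fun x hx => by
        show Ideal.Quotient.mk _ ((Algebra.TensorProduct.includeRight : P →ₐ[B₀] R ⊗[B₀] P) x) = 0
        rw [Ideal.Quotient.eq_zero_iff_mem]
        have := Ideal.mem_map_of_mem (Algebra.TensorProduct.includeRight : P →ₐ[B₀] R ⊗[B₀] P) hx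
        rw [Ideal.map_pow] at this
        refine Ideal.pow_right_mono ?_ 2 this
        rw [Ideal.map_le_iff_le_comap]
        intro y hy
        show f (1 ⊗ₜ y) = 0
        rw [Algebra.TensorProduct.map_tmul, show π y = 0 from hy, TensorProduct.tmul_zero]
  let τ : R ⊗[B₀] (P ⧸ RingHom.ker π.toRingHom ^ 2) →ₐ[R]
      (R ⊗[B₀] P) ⧸ RingHom.ker f.toRingHom ^ 2 :=
    Algebra.TensorProduct.lift (Algebra.ofId _ _) τ₀ fun _ _ => Commute.all _ _
  have hτ : f.kerSquareLift.comp τ = qmap π R := Algebra.TensorProduct.ext' fun r q => by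
    obtain ⟨x, rfl⟩ := Ideal.Quotient.mk_surjective q
    rw [AlgHom.comp_apply, Algebra.TensorProduct.lift_tmul, map_mul, Algebra.ofId_apply,
      AlgHom.commutes]
    show algebraMap R (R ⊗[B₀] C) r * f (1 ⊗ₜ x) = r ⊗ₜ π x
    rw [Algebra.TensorProduct.map_tmul, Algebra.TensorProduct.algebraMap_apply,
      Algebra.TensorProduct.tmul_mul_tmul, map_one, one_mul, mul_one]
    rfl
  refine Algebra.FormallySmooth.of_split f
    (Algebra.TensorProduct.lift (Algebra.ofId _ _) ((τ.restrictScalars B₀).comp σ)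
      fun _ _ => Commute.all _ _) ?_
  refine Algebra.TensorProduct.ext' fun r c => ?_
  rw [AlgHom.comp_apply, Algebra.TensorProduct.lift_tmul, map_mul, Algebra.ofId_apply,
    AlgHom.commutes, AlgHom.comp_apply, AlgHom.restrictScalars_apply, ← AlgHom.comp_apply, hτ, h,
    Algebra.TensorProduct.algebraMap_apply, Algebra.TensorProduct.tmul_mul_tmul, AlgHom.id_apply,
    mul_one, one_mul]
  rfl

theorem exists_section_of_sq_zero {Q : Type u} [CommRing Q] [Algebra B₀ Q] (q : Q →ₐ[B₀] C)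
    (hq : Function.Surjective q) (hk : RingHom.ker q ^ 2 = ⊥) (R : Type u) [CommRing R]
    [Algebra B₀ R] [Algebra.FormallySmooth R (R ⊗[B₀] C)] :
    ∃ σ : C →ₐ[B₀] R ⊗[B₀] Q, ∀ c, Algebra.TensorProduct.map (AlgHom.id R R) q (σ c) = 1 ⊗ₜ c := by
  have hnil : IsNilpotent (RingHom.ker
      (Algebra.TensorProduct.map (AlgHom.id R R) q : R ⊗[B₀] Q →+* R ⊗[B₀] C)) := by
    refine ⟨2, ?_⟩
    have := Algebra.TensorProduct.lTensor_ker (A := R) q hq
    refine (congrArg (· ^ 2) this).trans ?_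
    rw [← Ideal.map_pow, hk, Ideal.map_bot, Ideal.zero_eq_bot]
  have hs : Function.Surjective (Algebra.TensorProduct.map (AlgHom.id R R) q) := fun y => by
    induction y using TensorProduct.induction_on with
    | zero => exact ⟨0, map_zero _⟩
    | add a b ha hb =>
      obtain ⟨x, hx⟩ := ha
      obtain ⟨x', hx'⟩ := hb
      exact ⟨x + x', by rw [map_add, hx, hx']⟩
    | tmul r c => obtain ⟨x, rfl⟩ := hq c; exact ⟨r ⊗ₜ x, rfl⟩
  let L : R ⊗[B₀] C →ₐ[R] R ⊗[B₀] Q :=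
    Algebra.FormallySmooth.liftOfSurjective (R := R) (A := R ⊗[B₀] C) (B := R ⊗[B₀] Q)
      (C := R ⊗[B₀] C) (AlgHom.id R (R ⊗[B₀] C)) (Algebra.TensorProduct.map (AlgHom.id R R) q) hs hnil
  have hL : ∀ y, Algebra.TensorProduct.map (AlgHom.id R R) q (L y) = y := fun y =>
    Algebra.FormallySmooth.liftOfSurjective_apply _ _ hs hnil y
  exact ⟨(L.restrictScalars B₀).comp Algebra.TensorProduct.includeRight, fun c => hL _⟩

theorem exists_section_of_formallySmooth (hπ : Function.Surjective π) (R : Type u) [CommRing R]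
    [Algebra B₀ R] [Algebra.FormallySmooth R (R ⊗[B₀] C)] :
    ∃ σ : C →ₐ[B₀] R ⊗[B₀] (P ⧸ RingHom.ker π.toRingHom ^ 2), ∀ c, qmap π R (σ c) = 1 ⊗ₜ c :=
  exists_section_of_sq_zero π.kerSquareLift
    (fun c => by obtain ⟨x, rfl⟩ := hπ c; exact ⟨Ideal.Quotient.mk _ x, rfl⟩)
    ((congrArg (· ^ 2) π.ker_kerSquareLift).trans (Ideal.cotangentIdeal_square _)) R

variable {A₀ : Type u} [CommRing A₀] [Algebra A₀ B₀] {ι : Type v} {G : ι → Type u}
  [∀ i, CommRing (G i)] [∀ i, Algebra A₀ (G i)] {A : Type u} [CommRing A] [Algebra A₀ A]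
  {g : ∀ i, G i →ₐ[A₀] A}

/-- Smoothness holds at a stage, and then at every later one. -/
theorem IsStage.smooth (S : IsStage A₀ G A g) [Algebra.FinitePresentation B₀ C]
    (h : Algebra.FormallySmooth (B₀ ⊗[A₀] A) ((B₀ ⊗[A₀] A) ⊗[B₀] C)) :
    ∃ i, ∀ (Y : Type u) [CommRing Y] [Algebra A₀ Y] (_ : G i →ₐ[A₀] Y),
      Algebra.Smooth (B₀ ⊗[A₀] Y) ((B₀ ⊗[A₀] Y) ⊗[B₀] C) := by
  classical
  obtain ⟨n, π, hπ⟩ := Algebra.FiniteType.iff_quotient_mvPolynomial''.1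
    (inferInstance : Algebra.FiniteType B₀ C)
  obtain ⟨σ, hσ⟩ := exists_section_of_formallySmooth π hπ (B₀ ⊗[A₀] A)
  obtain ⟨i, σ', hσ'⟩ := S.lift_hom B₀ C (MvPolynomial (Fin n) B₀ ⧸ RingHom.ker π.toRingHom ^ 2) σ
  have nat : ∀ (X Y : Type u) [CommRing X] [CommRing Y] [Algebra A₀ X] [Algebra A₀ Y]
      (φ : X →ₐ[A₀] Y) (z : (B₀ ⊗[A₀] X) ⊗[B₀] (MvPolynomial (Fin n) B₀ ⧸ RingHom.ker π.toRingHom ^ 2)),
      trA B₀ C φ (qmap π (B₀ ⊗[A₀] X) z) = qmap π (B₀ ⊗[A₀] Y) (trA B₀ _ φ z) := by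
    intro X Y _ _ _ _ φ z
    induction z using TensorProduct.induction_on with
    | zero => rw [map_zero, map_zero, map_zero, map_zero]
    | add a b ha hb => rw [map_add, map_add, map_add, map_add, ha, hb]
    | tmul w m => rfl
  obtain ⟨s, hs⟩ := (inferInstance : Algebra.FiniteType B₀ C).out
  obtain ⟨j, ψ, hψ, h0⟩ := S.vanish_tr_finite B₀ C i
    (fun c : (s : Set C) => qmap π (B₀ ⊗[A₀] G i) (σ' c) - 1 ⊗ₜ[B₀] (c : C)) (fun c => by
      rw [← trA_eq_tr, map_sub, nat, trA_one_tmul, ← AlgHom.comp_apply, hσ', hσ, sub_self])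
  refine ⟨j, fun Y _ _ φ => ⟨?_, inferInstance⟩⟩
  refine formallySmooth_of_section π (B₀ ⊗[A₀] Y) ((trA B₀ _ (φ.comp ψ)).comp σ') fun c => ?_
  have := AlgHom.ext_of_adjoin_eq_top hs
    (φ₁ := ((qmap π (B₀ ⊗[A₀] Y)).restrictScalars B₀).comp ((trA B₀ _ (φ.comp ψ)).comp σ'))
    (φ₂ := Algebra.TensorProduct.includeRight) (fun c hc => by
      have := congrArg (trA B₀ C φ) (h0 ⟨c, hc⟩)
      rw [map_zero, ← trA_eq_tr, trA_trA, map_sub, nat, trA_one_tmul, sub_eq_zero] at this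
      exact this)
  exact AlgHom.congr_fun this c

/-- Étaleness holds at a stage, and then at every later one. -/
theorem IsStage.etale (S : IsStage A₀ G A g) [Algebra.FinitePresentation B₀ C]
    (h : Algebra.Etale (B₀ ⊗[A₀] A) ((B₀ ⊗[A₀] A) ⊗[B₀] C)) :
    ∃ i, ∀ (Y : Type u) [CommRing Y] [Algebra A₀ Y] (_ : G i →ₐ[A₀] Y),
      Algebra.Etale (B₀ ⊗[A₀] Y) ((B₀ ⊗[A₀] Y) ⊗[B₀] C) := by
  obtain ⟨i, hi⟩ := S.smooth (B₀ := B₀) (C := C) inferInstance
  obtain ⟨i', hi'⟩ := S.unramified B₀ C inferInstance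
  obtain ⟨j, φ, φ', -, -⟩ := S.dir i i'
  refine ⟨j, fun Y _ _ ψ => ?_⟩
  haveI := hi Y (ψ.comp φ)
  haveI := hi' Y (ψ.comp φ')
  exact ⟨Algebra.FormallyEtale.of_formallyUnramified_and_formallySmooth, inferInstance⟩

end GrothLib.RingStage
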