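import Mathlib
import Groth.Agent.Lib.RingStage.Algebra

/-!
# Noetherian models of unramified algebras
-/

universe u

set_option linter.style.haveILetI false

noncomputable section

namespace GrothLib.RingStage

open scoped TensorProduct

section cover

variable {R S P : Type u} [CommRing R] [CommRing S] [CommRing P] [Algebra R S] [Algebra R P]

/-- The relations among differentials coming from an ideal. -/
def relN (R : Type u) [CommRing R] {P : Type u} [CommRing P] [Algebra R P] (J : Ideal P) :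
    Submodule P Ω[P⁄R] :=
  J • ⊤ ⊔ Submodule.span P (KaehlerDifferential.D R P '' (J : Set P))

theorem relN_mono {J K : Ideal P} (h : J ≤ K) : relN R J ≤ relN R K :=
  sup_le_sup (Submodule.smul_mono_left h) (Submodule.span_mono (Set.image_mono h))

theorem exists_fg_of_mem_relN {I : Ideal P} {x : Ω[P⁄R]} (hx : x ∈ relN R I) :
    ∃ J : Ideal P, J.FG ∧ J ≤ I ∧ x ∈ relN R J := by
  have hadd : ∀ a b : Ω[P⁄R], (∃ J : Ideal P, J.FG ∧ J ≤ I ∧ a ∈ relN R J) →
      (∃ J : Ideal P, J.FG ∧ J ≤ I ∧ b ∈ relN R J) → ∃ J : Ideal P, J.FG ∧ J ≤ I ∧ a + b ∈ relN R J := by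
    rintro a b ⟨J, hJ, hJI, ha⟩ ⟨K, hK, hKI, hb⟩
    exact ⟨J ⊔ K, Submodule.FG.sup hJ hK, sup_le hJI hKI,
      add_mem (relN_mono le_sup_left ha) (relN_mono le_sup_right hb)⟩
  obtain ⟨y, hy, z, hz, rfl⟩ := Submodule.mem_sup.1 hx
  clear hx
  refine hadd y z ?_ ?_
  · refine Submodule.smul_induction_on hy (fun r hr m _ => ?_) hadd
    exact ⟨Ideal.span {r}, Submodule.fg_span_singleton r, (Ideal.span_singleton_le_iff_mem _).2 hr,
      Submodule.mem_sup_left (Submodule.smul_mem_smul (Ideal.mem_span_singleton_self r) trivial)⟩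
  · induction hz using Submodule.span_induction with
    | mem w hw =>
      obtain ⟨f, hf, rfl⟩ := hw
      exact ⟨Ideal.span {f}, Submodule.fg_span_singleton f, (Ideal.span_singleton_le_iff_mem _).2 hf,
        Submodule.mem_sup_right (Submodule.subset_span ⟨f, Ideal.mem_span_singleton_self f, rfl⟩)⟩
    | zero => exact ⟨⊥, Submodule.fg_bot, bot_le, zero_mem _⟩
    | add a b _ _ ha hb => exact hadd a b ha hb
    | smul r a _ ha =>
      obtain ⟨J, hJ, hJI, ha⟩ := ha
      exact ⟨J, hJ, hJI, Submodule.smul_mem _ _ ha⟩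

theorem mem_relN_of_surjective (π : P →ₐ[R] S) (hπ : Function.Surjective π)
    [Algebra.FormallyUnramified R S] (x : Ω[P⁄R]) : x ∈ relN R (RingHom.ker π.toRingHom) := by
  letI : Algebra P S := π.toRingHom.toAlgebra
  haveI : IsScalarTower R P S := IsScalarTower.of_algebraMap_eq fun r => (π.commutes r).symm
  obtain ⟨c, hc⟩ := (KaehlerDifferential.exact_kerCotangentToTensor_mapBaseChange R P S hπ
    ((1 : S) ⊗ₜ[P] x)).1 (Subsingleton.elim _ _)
  obtain ⟨f, rfl⟩ := Ideal.toCotangent_surjective _ c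
  rw [KaehlerDifferential.kerCotangentToTensor_toCotangent] at hc
  have h0 : (1 : S) ⊗ₜ[P] (x - KaehlerDifferential.D R P (f : P)) = 0 := by
    rw [TensorProduct.tmul_sub, hc, sub_self]
  have hmem : x - KaehlerDifferential.D R P (f : P) ∈ RingHom.ker π.toRingHom • (⊤ : Submodule P Ω[P⁄R]) := by
    let e : (P ⧸ RingHom.ker π.toRingHom) ≃ₗ[P] S := LinearEquiv.ofBijective
      ((RingHom.ker π.toRingHom).liftQ (Algebra.linearMap P S) fun y hy => hy) ⟨by
        rw [← LinearMap.ker_eq_bot, eq_bot_iff]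
        intro y hy
        obtain ⟨y, rfl⟩ := Submodule.Quotient.mk_surjective _ y
        exact (Submodule.Quotient.mk_eq_zero _).2 hy, fun s => by
        obtain ⟨y, rfl⟩ := hπ s
        exact ⟨Submodule.Quotient.mk y, rfl⟩⟩
    have h1 := congrArg (TensorProduct.quotTensorEquivQuotSMul Ω[P⁄R] (RingHom.ker π.toRingHom))
      (congrArg (LinearEquiv.rTensor Ω[P⁄R] e).symm h0)
    rw [map_zero, map_zero, LinearEquiv.rTensor_symm_tmul,
      show e.symm 1 = Submodule.Quotient.mk 1 from e.symm_apply_eq.2 (map_one (algebraMap P S)).symm] at h1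
    erw [TensorProduct.quotTensorEquivQuotSMul_mk_tmul] at h1
    rw [one_smul, Submodule.Quotient.mk_eq_zero] at h1
    exact h1
  rw [← sub_add_cancel x (KaehlerDifferential.D R P (f : P))]
  exact add_mem (Submodule.mem_sup_left hmem)
    (Submodule.mem_sup_right (Submodule.subset_span ⟨f, f.2, rfl⟩))

theorem relN_le_ker (J : Ideal P) :
    relN R J ≤ LinearMap.ker (KaehlerDifferential.map R R P (P ⧸ J)) := by
  refine sup_le ?_ ?_
  · rw [Submodule.smul_le]
    intro r hr m _
    rw [LinearMap.mem_ker, map_smul, ← algebraMap_smul (P ⧸ J), Ideal.Quotient.algebraMap_eq,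
      Ideal.Quotient.eq_zero_iff_mem.2 hr, zero_smul]
  · rw [Submodule.span_le]
    rintro _ ⟨f, hf, rfl⟩
    rw [SetLike.mem_coe, LinearMap.mem_ker, KaehlerDifferential.map_D, Ideal.Quotient.algebraMap_eq,
      Ideal.Quotient.eq_zero_iff_mem.2 hf, map_zero]

/-- An unramified algebra is a quotient of a finitely presented unramified one. -/
theorem exists_finitePresentation_cover (R S : Type u) [CommRing R] [CommRing S] [Algebra R S]
    [Algebra.Unramified R S] :
    ∃ (S₁ : Type u) (_ : CommRing S₁) (_ : Algebra R S₁) (φ : S₁ →ₐ[R] S),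
      Function.Surjective φ ∧ Algebra.FinitePresentation R S₁ ∧ Algebra.FormallyUnramified R S₁ := by
  classical
  obtain ⟨n, π, hπ⟩ := Algebra.FiniteType.iff_quotient_mvPolynomial''.1
    (inferInstance : Algebra.FiniteType R S)
  choose J hJ hJI hx using fun i : Fin n =>
    exists_fg_of_mem_relN (mem_relN_of_surjective π hπ (KaehlerDifferential.D R _ (MvPolynomial.X i)))
  let K : Ideal (MvPolynomial (Fin n) R) := Finset.univ.sup J
  have hK : K.FG := Submodule.fg_finset_sup Finset.univ J fun i _ => hJ i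
  have hKI : K ≤ RingHom.ker π.toRingHom := Finset.sup_le fun i _ => hJI i
  refine ⟨MvPolynomial (Fin n) R ⧸ K, inferInstance, inferInstance,
    Ideal.Quotient.liftₐ K π (fun x hx => hKI hx), Ideal.Quotient.lift_surjective_of_surjective _ _ hπ,
    Algebra.FinitePresentation.quotient hK, ⟨subsingleton_of_forall_eq 0 fun w => ?_⟩⟩
  have hw : w ∈ Submodule.span (MvPolynomial (Fin n) R ⧸ K)
      (Set.range (KaehlerDifferential.D R (MvPolynomial (Fin n) R ⧸ K))) := by
    rw [KaehlerDifferential.span_range_derivation]; trivial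
  induction hw using Submodule.span_induction with
  | zero => rfl
  | add a b _ _ ha hb => rw [ha, hb, add_zero]
  | smul r a _ ha => rw [ha, smul_zero]
  | mem w hw =>
    obtain ⟨q, rfl⟩ := hw
    obtain ⟨p, rfl⟩ := Ideal.Quotient.mk_surjective q
    rw [← Ideal.Quotient.algebraMap_eq, ← KaehlerDifferential.map_D R R _ (MvPolynomial (Fin n) R ⧸ K)]
    refine LinearMap.mem_ker.1 (relN_le_ker K ?_)
    induction p using MvPolynomial.induction_on with
    | C r =>
      rw [← MvPolynomial.algebraMap_eq, Derivation.map_algebraMap]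
      exact zero_mem _
    | add a b ha hb => rw [map_add]; exact add_mem ha hb
    | mul_X a i ha =>
      rw [Derivation.leibniz]
      exact add_mem (Submodule.smul_mem _ _ (relN_mono (Finset.le_sup (Finset.mem_univ i)) (hx i)))
        (Submodule.smul_mem _ _ ha)

end cover

theorem formallyUnramified_lid (A₀ A C : Type u) [CommRing A₀] [CommRing A] [CommRing C]
    [Algebra A₀ A] [Algebra A₀ C] [Algebra.FormallyUnramified A (A ⊗[A₀] C)] :
    Algebra.FormallyUnramified (A₀ ⊗[A₀] A) ((A₀ ⊗[A₀] A) ⊗[A₀] C) := by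
  letI : Algebra A (A₀ ⊗[A₀] A) := Algebra.TensorProduct.rightAlgebra
  haveI : IsScalarTower A₀ A (A₀ ⊗[A₀] A) := IsScalarTower.of_algebraMap_eq fun a => by
    show a ⊗ₜ[A₀] (1 : A) = (1 : A₀) ⊗ₜ algebraMap A₀ A a
    rw [Algebra.algebraMap_eq_smul_one (A := A), TensorProduct.tmul_smul, TensorProduct.smul_tmul',
      smul_eq_mul, mul_one]
  exact Algebra.FormallyUnramified.of_equiv (R := A₀ ⊗[A₀] A)
    (A := (A₀ ⊗[A₀] A) ⊗[A] (A ⊗[A₀] C))
    (Algebra.TensorProduct.cancelBaseChange A₀ A (A₀ ⊗[A₀] A) (A₀ ⊗[A₀] A) C)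

/-- A finitely presented formally unramified algebra comes from a finitely generated ring. -/
theorem exists_model_unramified (R S : Type u) [CommRing R] [CommRing S] [Algebra R S]
    [Algebra.FinitePresentation R S] [Algebra.FormallyUnramified R S] :
    ∃ (R₀ : Type u) (_ : CommRing R₀) (_ : Algebra.FiniteType ℤ R₀) (S₀ : Type u) (_ : CommRing S₀)
      (_ : Algebra R₀ S₀) (_ : Algebra.FinitePresentation R₀ S₀) (_ : Algebra.FormallyUnramified R₀ S₀)
      (_ : Algebra R₀ R), Nonempty (R ⊗[R₀] S₀ ≃ₐ[R] S) := by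
  classical
  let P := Algebra.Presentation.ofFinitePresentation R S
  let R' : Subalgebra ℤ R := Algebra.adjoin ℤ P.coeffs
  haveI : P.HasCoeffs R' := ⟨by simp [R']⟩
  let e : R ⊗[R'] P.ModelOfHasCoeffs R' ≃ₐ[R] S := P.tensorModelOfHasCoeffsEquiv R'
  haveI : Algebra.FormallyUnramified R (R ⊗[R'] P.ModelOfHasCoeffs R') :=
    Algebra.FormallyUnramified.of_equiv e.symm
  have hS : IsStage R' (fun T : {T : Subalgebra R' R // T.FG} => T.1) R (fun T => T.1.val) :=
    { nonempty := ⟨⟨⊥, Subalgebra.fg_bot⟩⟩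
      dir := fun T T' => ⟨⟨T.1 ⊔ T'.1, T.2.sup T'.2⟩, Subalgebra.inclusion le_sup_left,
        Subalgebra.inclusion le_sup_right, rfl, rfl⟩
      surj := fun a => ⟨⟨Algebra.adjoin R' {a}, Subalgebra.fg_adjoin_finset {a} |> fun h => by simpa using h⟩,
        ⟨a, Algebra.subset_adjoin rfl⟩, rfl⟩
      vanish := fun T x hx => ⟨T, AlgHom.id _ _, AlgHom.comp_id _, Subtype.ext hx⟩ }
  haveI := formallyUnramified_lid R' R (P.ModelOfHasCoeffs R')
  obtain ⟨T, hT⟩ := hS.unramified R' (P.ModelOfHasCoeffs R') inferInstance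
  haveI := hT T.1 (AlgHom.id _ _)
  haveI : Algebra.FiniteType ℤ R' := R'.fg_iff_finiteType.1 ⟨P.finite_coeffs.toFinset, by simp [R']⟩
  haveI : Algebra.FiniteType R' T.1 := T.1.fg_iff_finiteType.1 T.2
  haveI : Algebra.FiniteType ℤ T.1 := Algebra.FiniteType.trans ‹Algebra.FiniteType ℤ R'› inferInstance
  have hft : @Algebra.FiniteType ℤ (R' ⊗[R'] T.1) _ _ (Ring.toIntAlgebra _) :=
    Algebra.FiniteType.of_surjective (Algebra.TensorProduct.lid R' T.1).symm.toRingEquiv.toRingHom.toIntAlgHom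
      (Algebra.TensorProduct.lid R' T.1).symm.surjective
  let φ : R' ⊗[R'] T.1 →ₐ[R'] R := T.1.val.comp (Algebra.TensorProduct.lid R' T.1).toAlgHom
  letI : Algebra (R' ⊗[R'] T.1) R := φ.toRingHom.toAlgebra
  haveI : IsScalarTower R' (R' ⊗[R'] T.1) R := IsScalarTower.of_algebraMap_eq fun a => (φ.commutes a).symm
  exact ⟨R' ⊗[R'] T.1, inferInstance, hft, (R' ⊗[R'] T.1) ⊗[R'] P.ModelOfHasCoeffs R',
    inferInstance, inferInstance, inferInstance, inferInstance, inferInstance,
    ⟨(Algebra.TensorProduct.cancelBaseChange R' (R' ⊗[R'] T.1) R R (P.ModelOfHasCoeffs R')).trans e⟩⟩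

end GrothLib.RingStage
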